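import Mathlib
set_option autoImplicit false

/-!
Piece (AR7) of helper16's arithmetic layer for Brauer 1943 (S0996 / S0999 / S4701): splitting a divisor `y ≡ e (mod p)` of
`(1 + n p) e`.
-/

namespace Cfsg.Agent.Helper79.B43

theorem ar_split_exc_pos (p e n y : ℕ) (hp : p.Prime) (he1 : 1 ≤ e) (hep : e < p)
    (hy : (y : ℤ) ≡ e [ZMOD p]) (hdvd : y ∣ (1 + n * p) * e) :
    ∃ u h : ℕ, y = u * p + e ∧ (u * p + e) * (1 + h * p) = (1 + n * p) * e := by
  have hy' : y ≡ e [MOD p] := Int.natCast_modEq_iff.mp hy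
  have hymod : y % p = e := by
    have h1 : y % p = e % p := hy'
    rw [h1, Nat.mod_eq_of_lt hep]
  have hyeq : y = y / p * p + e := by
    have h1 := Nat.div_add_mod y p
    rw [hymod] at h1
    rw [mul_comm]
    exact h1.symm
  obtain ⟨w, hw⟩ := hdvd
  -- `w ≡ 1 (mod p)`
  have hcop : Nat.gcd p e = 1 :=
    (Nat.Prime.coprime_iff_not_dvd hp).mpr (Nat.not_dvd_of_pos_of_lt he1 hep)
  have h2 : e * w ≡ e * 1 [MOD p] := by
    have h3 : y * w ≡ e * w [MOD p] := Nat.ModEq.mul_right w hy'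
    have h4 : (1 + n * p) * e ≡ e * 1 [MOD p] := by
      have h5 : 1 + n * p ≡ 1 [MOD p] := by
        have : n * p ≡ 0 [MOD p] := (Nat.modEq_zero_iff_dvd).mpr (dvd_mul_left p n)
        exact Nat.ModEq.add_left 1 this
      simpa [mul_comm] using Nat.ModEq.mul_right e h5
    exact h3.symm.trans (hw ▸ h4)
  have h6 : w ≡ 1 [MOD p] := Nat.ModEq.cancel_left_of_coprime hcop h2
  have hwmod : w % p = 1 := by
    have h1 : w % p = 1 % p := h6
    rw [h1, Nat.mod_eq_of_lt hp.one_lt]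
  have hweq : w = 1 + w / p * p := by
    have h1 := Nat.div_add_mod w p
    rw [hwmod] at h1
    rw [mul_comm, add_comm]
    exact h1.symm
  refine ⟨y / p, w / p, hyeq, ?_⟩
  rw [← hyeq, ← hweq]
  exact hw.symm

end Cfsg.Agent.Helper79.B43
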